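import Groth.Prelude.Def_LieS
import Groth.Prelude.Def_Red

/-!
# The Lie algebra of a diagonalisable group over an affine base
-/

universe u

noncomputable section

open CategoryTheory MonObj AlgebraicGeometry
open LieS

namespace Groth.Agent.LieDiag

variable (R : Type u) [CommRing R] (M : Type) [AddCommGroup M]
variable (B : Type u) [CommRing B] [Algebra R B]

/-- The point of `D(M)` over `Spec B`, seen through `Over.mk`, is `asOver`. -/
def ptIso : pt B (Spec.map (CommRingCat.ofHom (algebraMap R B))) ≅
    (Spec (CommRingCat.of B)).asOver (Spec (CommRingCat.of R)) :=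
  Over.isoMk (Iso.refl (Spec (CommRingCat.of B))) (by
    change 𝟙 _ ≫ Spec.map _ = Spec.map _
    rw [Category.id_comp])

/-- `Spec` of a map of `R`-algebras, over `Spec R`. -/
def specOver {C D : Type u} [CommRing C] [CommRing D] [Algebra R C] [Algebra R D] (g : C →ₐ[R] D) :
    (Spec (CommRingCat.of D)).asOver (Spec (CommRingCat.of R)) ⟶
      (Spec (CommRingCat.of C)).asOver (Spec (CommRingCat.of R)) :=
  Over.homMk (Spec.map (CommRingCat.ofHom g.toRingHom)) (by
    change Spec.map _ ≫ Spec.map _ = Spec.map _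
    rw [← Spec.map_comp, ← CommRingCat.ofHom_comp]
    congr 2
    exact RingHom.ext fun r => g.commutes r)

theorem specOver_mapMulEquiv {C D S : Type u} [CommRing C] [CommRing D] [CommRing S] [Algebra R C]
    [Algebra R D] [Bialgebra R S] (g : C →ₐ[R] D) (φ : WithConv (S →ₐ[R] C)) :
    specOver R g ≫ Spec.mapMulEquiv φ = Spec.mapMulEquiv ⟨g.comp φ.ofConv⟩ := by
  ext1
  change Spec.map _ ≫ Spec.map _ = Spec.map _
  rw [← Spec.map_comp, ← CommRingCat.ofHom_comp]
  rfl

/-- The augmentation `B[ε] → B` as a map of `R`-algebras. -/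
def fstAlg : DualNumber B →ₐ[R] B := TrivSqZeroExt.fstHom R B B

theorem zeroSec_dptIso :
    zeroSec B (Spec.map (CommRingCat.ofHom (algebraMap R B))) ≫ (dptIso (R := R) B).hom =
      (ptIso R B).hom ≫ specOver R (fstAlg R B) := by
  ext1
  change Spec.map _ ≫ 𝟙 _ = 𝟙 _ ≫ Spec.map _
  rw [Category.comp_id, Category.id_comp]
  rfl

/-- A point of `D(M)` with values in dual numbers, as an algebra map. -/
def phi : LieR (Red.diag R M) B →*
    WithConv (MonoidAlgebra R (Multiplicative M) →ₐ[R] DualNumber B) where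
  toFun v := Spec.mapMulEquiv.symm ((dptIso B).inv ≫ v.1)
  map_one' := by rw [Subgroup.coe_one, MonObj.comp_one, map_one]
  map_mul' v w := by rw [Subgroup.coe_mul, MonObj.comp_mul, map_mul]

theorem phi_spec (v : LieR (Red.diag R M) B) :
    v.1 = (dptIso B).hom ≫ Spec.mapMulEquiv (phi R M B v) := by
  simp [phi]

theorem phi_injective : Function.Injective (phi R M B) := fun v w h => by
  apply Subtype.ext
  rw [phi_spec R M B v, phi_spec R M B w, h]

/-- Membership in the Lie algebra, on algebra maps. -/
theorem mem_iff (φ : WithConv (MonoidAlgebra R (Multiplicative M) →ₐ[R] DualNumber B)) :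
    (dptIso B).hom ≫ Spec.mapMulEquiv φ ∈ LieR (Red.diag R M) B ↔
      ∀ m : M, TrivSqZeroExt.fst (φ.ofConv (MonoidAlgebra.single (Multiplicative.ofAdd m) 1)) =
        (1 : B) := by
  have h1 : (1 : pt B (Spec.map (CommRingCat.ofHom (algebraMap R B))) ⟶ Red.diag R M) =
      (ptIso R B).hom ≫ Spec.mapMulEquiv 1 := by rw [map_one, MonObj.comp_one]
  rw [LieR, mem_Lie_iff, ← Category.assoc, zeroSec_dptIso, Category.assoc, h1,
    cancel_epi, specOver_mapMulEquiv, EmbeddingLike.apply_eq_iff_eq, ← WithConv.ofConv_injective.eq_iff]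
  constructor
  · intro h m
    have := congr($h (MonoidAlgebra.single (Multiplicative.ofAdd m) 1))
    simpa [fstAlg, AlgHom.convOne_apply] using this
  · intro h
    apply MonoidAlgebra.algHom_ext
    · intro x
      simpa [fstAlg, AlgHom.convOne_apply] using h (Multiplicative.toAdd x)
    · ext

theorem phi_fst (v : LieR (Red.diag R M) B) (m : M) :
    TrivSqZeroExt.fst ((phi R M B v).ofConv (MonoidAlgebra.single (Multiplicative.ofAdd m) 1)) =
      (1 : B) := by
  refine (mem_iff R M B _).1 ?_ m
  rw [← phi_spec]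
  exact v.2

theorem phi_add (v : LieR (Red.diag R M) B) (m n : M) :
    (phi R M B v).ofConv (MonoidAlgebra.single (Multiplicative.ofAdd (m + n)) 1) =
      (phi R M B v).ofConv (MonoidAlgebra.single (Multiplicative.ofAdd m) 1) *
        (phi R M B v).ofConv (MonoidAlgebra.single (Multiplicative.ofAdd n) 1) := by
  rw [← map_mul, MonoidAlgebra.single_mul_single, ← ofAdd_add, _root_.one_mul]

theorem phi_smul (b : B) (v : LieR (Red.diag R M) B) (x : MonoidAlgebra R (Multiplicative M)) :
    (phi R M B (b • v)).ofConv x = scaleHom b ((phi R M B v).ofConv x) := by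
  have h1 : (b • v).1.left = Spec.map (CommRingCat.ofHom (scaleHom b)) ≫
      Spec.map (CommRingCat.ofHom (phi R M B v).ofConv.toRingHom) := by
    rw [smul_val, phi_spec R M B v]
    change Spec.map _ ≫ 𝟙 _ ≫ Spec.map _ = _
    rw [Category.id_comp]
  have h2 : (b • v).1.left =
      Spec.map (CommRingCat.ofHom (phi R M B (b • v)).ofConv.toRingHom) := by
    rw [phi_spec R M B (b • v)]
    change 𝟙 _ ≫ Spec.map _ = _
    rw [Category.id_comp]
  rw [h1, ← Spec.map_comp, ← CommRingCat.ofHom_comp] at h2
  have h3 := congrArg CommRingCat.Hom.hom (Spec.map_injective h2)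
  exact (RingHom.congr_fun h3 x).symm

/-- The homomorphism `Lie(D(M))(B) → Hom(M, B)`. -/
def toHom : LieR (Red.diag R M) B →* Multiplicative (M →+ B) where
  toFun v := Multiplicative.ofAdd (AddMonoidHom.mk' (fun m => TrivSqZeroExt.snd
      ((phi R M B v).ofConv (MonoidAlgebra.single (Multiplicative.ofAdd m) 1))) (fun m n => by
    rw [phi_add, DualNumber.snd_mul, phi_fst, phi_fst]
    ring))
  map_one' := by
    rw [← toAdd_eq_zero, toAdd_ofAdd]
    ext m
    simp [map_one, AlgHom.convOne_apply]
  map_mul' v w := by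
    apply Multiplicative.toAdd.injective
    ext m
    simp only [toAdd_ofAdd, toAdd_mul, AddMonoidHom.mk'_apply, AddMonoidHom.add_apply, map_mul,
      MonoidAlgebra.convMul_algHom_single_one, DualNumber.snd_mul, phi_fst]
    ring

theorem toHom_injective : Function.Injective (toHom R M B) := by
  intro v w h
  apply phi_injective R M B
  apply WithConv.ofConv_injective
  apply MonoidAlgebra.algHom_ext
  · intro x
    obtain ⟨m, rfl⟩ := Multiplicative.ofAdd.surjective x
    apply TrivSqZeroExt.ext
    · rw [phi_fst, phi_fst]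
    · exact DFunLike.congr_fun (Multiplicative.ofAdd.injective h) m
  · ext

theorem toHom_surjective : Function.Surjective (toHom R M B) := by
  intro a
  let F : Multiplicative M →* DualNumber B :=
    { toFun := fun x => TrivSqZeroExt.inl 1 + TrivSqZeroExt.inr (Multiplicative.toAdd a x.toAdd)
      map_one' := by simp
      map_mul' := fun x y => by
        apply TrivSqZeroExt.ext
        · simp
        · simp [add_comm] }
  let φ : WithConv (MonoidAlgebra R (Multiplicative M) →ₐ[R] DualNumber B) :=
    ⟨MonoidAlgebra.lift R (DualNumber B) (Multiplicative M) F⟩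
  have hφ : ∀ x, φ.ofConv (MonoidAlgebra.single x 1) = F x := fun x => by
    simp [φ]
  have hmem : (dptIso B).hom ≫ Spec.mapMulEquiv φ ∈ LieR (Red.diag R M) B := by
    rw [mem_iff]
    intro m
    simp [hφ, F]
  refine ⟨⟨_, hmem⟩, ?_⟩
  apply Multiplicative.toAdd.injective
  ext m
  simp [toHom, phi, hφ, F]

theorem main : ∃ e : LieS.LieR (Red.diag R M) B ≃* Multiplicative (M →+ B),
      (∀ (v : LieS.LieR (Red.diag R M) B) (m : M),
        Multiplicative.toAdd (e v) m =
          TrivSqZeroExt.snd (((Spec.mapMulEquiv.symm ((LieS.dptIso B).inv ≫ v.1)).ofConv :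
            MonoidAlgebra R (Multiplicative M) →ₐ[R] DualNumber B)
            (MonoidAlgebra.single (Multiplicative.ofAdd m) 1))) ∧
      ∀ (b : B) (v : LieS.LieR (Red.diag R M) B),
        e (b • v) = Multiplicative.ofAdd (b • Multiplicative.toAdd (e v)) := by
  refine ⟨MulEquiv.ofBijective (toHom R M B) ⟨toHom_injective R M B, toHom_surjective R M B⟩,
    fun v m => rfl, fun b v => ?_⟩
  apply Multiplicative.toAdd.injective
  ext m
  change TrivSqZeroExt.snd ((phi R M B (b • v)).ofConv _) =
    b • TrivSqZeroExt.snd ((phi R M B v).ofConv _)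
  rw [phi_smul]
  simp [scaleHom, TrivSqZeroExt.algebraMap_eq_inl', mul_comm]

end Groth.Agent.LieDiag
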